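import Groth.Prelude.Def_DCoh2
import Groth.Agent.H15Site.RlimTriang
import Groth.Agent.H15Site.SiteGenInst
import Groth.Agent.H10Coh.Affine
import Groth.Agent.H10Coh.QCohOps
import Groth.Agent.H24FMod.LimTop
import Groth.Agent.H16Derived.KInjRes.Main

/-!
# Derived limits of towers of acyclic objects with eventually surjective transition maps
-/

set_option autoImplicit false
set_option linter.style.haveILetI false
set_option backward.isDefEq.respectTransparency false

universe w u

open CategoryTheory CategoryTheory.Limits CategoryTheory.Pretriangulated Opposite DerivedCategory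
open DerivedCategory.TStructure

namespace Groth.Agent.H16Derived.RlimMod

open H15Site H15Site.SiteGen H15Site.RlimTrunc H15Site.SiteGenInst

section Generic

variable {C : Type u} [SmallCategory C] {J : GrothendieckTopology C}
  {A : Type (u + 1)} [Category.{u} A] [Abelian A] [HasDerivedCategory.{w} A] (𝔾 : Gen J A)

theorem subsingleton_single_neg (M N : A) (m : ℤ) (hm : m < 0) :
    Subsingleton ((singleFunctor A 0).obj M ⟶ ((singleFunctor A 0).obj N)⟦m⟧) := by
  haveI : DerivedCategory.IsGE (((singleFunctor A 0).obj N)⟦m⟧) (-m) :=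
    t.isGE_shift _ 0 m (-m) (by omega)
  haveI : t.IsGE (((singleFunctor A 0).obj N)⟦m⟧) (-m) := this
  exact subsingleton_of_forall_eq 0 fun x => t.zero x 0 (-m) (by omega)

variable (F : ℕ → A) (t' : ∀ n, F (n + 1) ⟶ F n) (B : Set C)
  (hB : ∀ U : C, ∃ (ι : Type u) (Y : ι → C) (f : ∀ i, Y i ⟶ U), Sieve.ofArrows Y f ∈ J U ∧ ∀ i, Y i ∈ B)
  (hv : ∀ U ∈ B, ∀ (k : ℕ), 0 < k → ∀ n, Van 𝔾 k U (F n)) (N : ℕ)
  (hs : ∀ U ∈ B, ∀ n, N ≤ n → Function.Surjective fun φ : 𝔾.G.obj U ⟶ F (n + 1) => φ ≫ t' n)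

include hv hs in
theorem surjective_transition {U : C} (hU : U ∈ B) (m : ℤ) (n : ℕ) (hn : N ≤ n)
    (x : (singleFunctor A 0).obj (𝔾.G.obj U) ⟶ ((singleFunctor A 0).obj (F n))⟦m⟧) :
    ∃ x', x' ≫ ((singleFunctor A 0).map (t' n))⟦m⟧' = x := by
  rcases lt_trichotomy m 0 with hm | rfl | hm
  · exact ⟨0, (subsingleton_single_neg _ _ m hm).elim _ _⟩
  · let z := shiftFunctorZero (DerivedCategory A) ℤ
    obtain ⟨φ, hφ⟩ := (singleFunctor A 0).map_surjective (x ≫ z.hom.app _)
    obtain ⟨ψ, hψ⟩ := hs U hU n hn φ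
    refine ⟨(singleFunctor A 0).map ψ ≫ z.inv.app _, ?_⟩
    have hnat : z.inv.app ((singleFunctor A 0).obj (F (n + 1))) ≫ ((singleFunctor A 0).map (t' n))⟦(0 : ℤ)⟧' =
        (singleFunctor A 0).map (t' n) ≫ z.inv.app _ := (z.inv.naturality _).symm
    change ψ ≫ t' n = φ at hψ
    rw [Category.assoc]
    refine (congrArg (_ ≫ ·) hnat).trans ?_
    rw [← Category.assoc, ← Functor.map_comp, hψ, hφ, Category.assoc]
    exact (congrArg (x ≫ ·) (z.hom_inv_id_app _)).trans (Category.comp_id _)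
  · obtain ⟨k, rfl⟩ : ∃ k : ℕ, m = (k : ℤ) := ⟨m.toNat, by omega⟩
    exact ⟨0, (hv U hU k (by omega) n).elim _ _⟩

include hB hv hs in
/-- The derived limit is the limit through the projections, and the limit is acyclic. -/
theorem main_via [HasLimit (Functor.ofOpSequence t')]
    [HasProduct fun n => (singleFunctor A 0).obj (F n)] :
    CohCx.IsRlimVia (fun n => (singleFunctor A 0).obj (F n)) (fun n => (singleFunctor A 0).map (t' n))
        ((singleFunctor A 0).obj (limit (Functor.ofOpSequence t')))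
        (fun n => (singleFunctor A 0).map (limit.π (Functor.ofOpSequence t') (op n))) ∧
      ∀ U ∈ B, ∀ k : ℕ, 0 < k → Van 𝔾 k U (limit (Functor.ofOpSequence t')) := by
  let K := fun n => (singleFunctor A 0).obj (F n)
  let τ := fun n => (singleFunctor A 0).map (t' n)
  obtain ⟨L, a, hL⟩ := RlimTriang.exists_isRlimVia K τ
  -- no maps from the test objects to the shifts
  have hzero : ∀ U ∈ B, ∀ m : ℤ, m ≠ 0 → ∀ y : (singleFunctor A 0).obj (𝔾.G.obj U) ⟶ L⟦m⟧, y = 0 := by
    intro U hU m hm y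
    refine RlimTriang.eq_zero hL m (fun z => RlimTriang.exists_sub_eq
      (M := fun n => (singleFunctor A 0).obj (𝔾.G.obj U) ⟶ (K n)⟦m - 1⟧)
      (fun n => Preadditive.rightComp _ ((τ n)⟦m - 1⟧')) N
      (fun n hn x => surjective_transition 𝔾 F t' B hv N hs hU (m - 1) n hn x) z) y fun n => ?_
    rcases lt_or_gt_of_ne hm with hm | hm
    · exact (subsingleton_single_neg (𝔾.G.obj U) (F n) m hm).elim _ _
    · obtain ⟨k, rfl⟩ : ∃ k : ℕ, m = (k : ℤ) := ⟨m.toNat, by omega⟩
      exact (hv U hU k (by omega) n).elim _ _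
  have hH : ∀ q : ℤ, q ≠ 0 → IsZero ((homologyFunctor A q).obj L) := fun q hq => by
    refine (IsZero.iff_id_eq_zero _).2 (𝔾.gen _ fun U h => ?_)
    rw [Category.comp_id]
    obtain ⟨S, hS, hlift⟩ := exists_local_lift 𝔾 h
    obtain ⟨ι, Y, j, hj, hcov, hY⟩ := exists_cofinal_mem B hB hS
    refine 𝔾.sep hcov _ ?_
    rintro W _ ⟨_, p, _, ⟨i⟩, rfl⟩
    obtain ⟨y, hy⟩ := hlift (j i) (hj i)
    rw [hzero _ (hY i) q hq y, cls_zero] at hy
    rw [Functor.map_comp, Category.assoc]
    exact (congrArg (_ ≫ ·) hy.symm).trans comp_zero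
  haveI : L.IsGE 0 := (isGE_iff L 0).2 fun i hi => hH i (by omega)
  haveI : L.IsLE 0 := (isLE_iff L 0).2 fun i hi => hH i (by omega)
  obtain ⟨M, ⟨eM⟩⟩ := exists_iso_singleFunctor_obj_of_isGE_of_isLE L 0
  let P := limit (Functor.ofOpSequence t')
  let π := fun n => limit.π (Functor.ofOpSequence t') (op n)
  have hπ : ∀ n, π (n + 1) ≫ t' n = π n := fun n => by
    have := limit.w (Functor.ofOpSequence t') (homOfLE (Nat.le_succ n)).op
    rwa [Functor.ofOpSequence_map_homOfLE_succ] at this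
  obtain ⟨f, hf⟩ := RlimTriang.exists_lift₀ hL (fun n => (singleFunctor A 0).map (π n)) fun n => by
    rw [← Functor.map_comp, hπ]
  obtain ⟨φ, hφ⟩ := (singleFunctor A 0).map_surjective (f ≫ eM.hom)
  have hzero' : ∀ (Q : A) (y : (singleFunctor A 0).obj Q ⟶ L), (∀ n, y ≫ a n = 0) → y = 0 := by
    intro Q y hy
    let z := shiftFunctorZero (DerivedCategory A) ℤ
    have hn : ∀ n, z.inv.app L ≫ (a n)⟦(0 : ℤ)⟧' = a n ≫ z.inv.app (K n) := fun n => (z.inv.naturality (a n)).symm
    rw [← cancel_mono (z.inv.app L), zero_comp]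
    refine RlimTriang.eq_zero hL 0 (fun w => ⟨fun _ => 0, fun n => ?_⟩) _ fun n => ?_
    · exact (subsingleton_single_neg Q (F n) (0 - 1) (by omega)).elim _ _
    · refine (Category.assoc _ _ _).trans ((congrArg (y ≫ ·) (hn n)).trans ?_)
      rw [← Category.assoc, hy, zero_comp]
  haveI : IsIso φ := (isIso_iff_yoneda_map_bijective φ).2 fun Q => by
    have hcomp : ∀ x : Q ⟶ P, ∀ n, ((singleFunctor A 0).map (x ≫ φ) ≫ eM.inv) ≫ a n =
        (singleFunctor A 0).map (x ≫ π n) := fun x n => by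
      rw [Functor.map_comp, hφ]
      simp [hf]
    constructor
    · intro x x' hx
      refine limit.hom_ext fun n => ?_
      obtain ⟨n⟩ := n
      apply (singleFunctor A 0).map_injective
      simp only at hx
      exact (hcomp x n).symm.trans ((congrArg (fun w => ((singleFunctor A 0).map w ≫ eM.inv) ≫ a n) hx).trans
        (hcomp x' n))
    · intro y
      let y' := (singleFunctor A 0).map y ≫ eM.inv
      choose g hg using fun n => (singleFunctor A 0).map_surjective (y' ≫ a n)
      have hgc : ∀ n, g (n + 1) ≫ t' n = g n := fun n => (singleFunctor A 0).map_injective (by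
        rw [Functor.map_comp, hg, hg, Category.assoc, comm_of_isRlimVia a hL n])
      let c : Cone (Functor.ofOpSequence t') :=
        ⟨Q, NatTrans.ofOpSequence (F := (Functor.const ℕᵒᵖ).obj Q) g fun n => by
          rw [Functor.ofOpSequence_map_homOfLE_succ]
          exact (Category.id_comp _).trans (hgc n).symm⟩
      refine ⟨limit.lift _ c, ?_⟩
      apply (singleFunctor A 0).map_injective
      rw [← cancel_mono eM.inv, ← sub_eq_zero]
      refine hzero' Q _ fun n => ?_
      rw [Preadditive.sub_comp, hcomp, limit.lift_π, sub_eq_zero]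
      exact hg n
  let e : (singleFunctor A 0).obj P ≅ L := (singleFunctor A 0).mapIso (asIso φ) ≪≫ eM.symm
  have hL' : CohCx.IsRlimVia K τ ((singleFunctor A 0).obj P) (fun n => (singleFunctor A 0).map (π n)) :=
    RlimTriang.isRlimVia_of_iso hL e _ fun n => by
      show ((singleFunctor A 0).map φ ≫ eM.inv) ≫ a n = _
      rw [hφ, Category.assoc f, eM.hom_inv_id, Category.comp_id]
      exact hf n
  refine ⟨?_, fun U hU k hk => ⟨fun x x' => ?_⟩⟩
  · exact hL'
  · refine (cancel_mono (e.hom⟦(k : ℤ)⟧')).1 ?_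
    rw [hzero U hU k (by omega) (x ≫ e.hom⟦(k : ℤ)⟧'), hzero U hU k (by omega) (x' ≫ e.hom⟦(k : ℤ)⟧')]

include hB hv hs in
/-- The derived limit is the limit, and the limit is acyclic. -/
theorem main [HasLimit (Functor.ofOpSequence t')]
    [HasProduct fun n => (singleFunctor A 0).obj (F n)] :
    DCoh.IsRlim (fun n => (singleFunctor A 0).obj (F n)) (fun n => (singleFunctor A 0).map (t' n))
        ((singleFunctor A 0).obj (limit (Functor.ofOpSequence t'))) ∧
      ∀ U ∈ B, ∀ k : ℕ, 0 < k → Van 𝔾 k U (limit (Functor.ofOpSequence t')) := by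
  obtain ⟨⟨c, hc⟩, h⟩ := main_via 𝔾 F t' B hB hv N hs
  exact ⟨⟨_, c, hc⟩, h⟩

end Generic

open AlgebraicGeometry TopologicalSpace

attribute [local instance] HasDerivedCategory.standard
attribute [local instance 10000] SiteInst.hasSheafifySite SiteInst.hasWeakSheafifySite SiteInst.hasExtSite
  SiteInst.enoughInjSite

/-- Towers of quasi-coherent modules with eventually epimorphic transition maps, through the projections. -/
theorem main_qcoh_via {X : Scheme.{u}} (F : ℕ → X.Modules) (hF : ∀ n, Coh.IsQCoh (F n))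
    (t : ∀ n, F (n + 1) ⟶ F n) (ht : ∀ n, 1 ≤ n → Epi (t n)) [HasProduct fun n => DCoh.inD X (F n)] :
    CohCx.IsRlimVia (fun n => DCoh.inD X (F n)) (fun n => (DerivedCategory.singleFunctor X.Modules 0).map (t n))
        (DCoh.inD X (limit (Functor.ofOpSequence t)))
        (fun n => (DerivedCategory.singleFunctor X.Modules 0).map (limit.π (Functor.ofOpSequence t) (op n))) ∧
      ∀ (U : X.Opens), IsAffineOpen U → ∀ p : ℕ, 0 < p →
        Subsingleton (Coh.HHon X (limit (Functor.ofOpSequence t)) U p) := by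
  let O := X.sheaf
  let B : Set X.Opens := {U | IsAffineOpen U}
  let 𝔾 : Gen (Opens.grothendieckTopology X.toTopCat) X.Modules := genMod O
  obtain ⟨h1, h2⟩ := main_via (A := X.Modules) 𝔾 F t B
    (fun U => H24FMod.LimTop.isCovering_of_isBasis X.isBasis_affineOpens U)
    (fun U (hU : IsAffineOpen U) k hk n => by
      obtain ⟨q, rfl⟩ := Nat.exists_eq_succ_of_ne_zero hk.ne'
      haveI : (F n).IsQuasicoherent := hF n
      exact (van_mod_iff O (q + 1) U (F n)).2 (H10Coh.subsingleton_HnM_of_isAffineOpen (F n) hU q)) 1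
    (fun U (hU : IsAffineOpen U) n hn φ => by
      haveI : (F n).IsQuasicoherent := hF n
      haveI : (F (n + 1)).IsQuasicoherent := hF (n + 1)
      haveI := ht n hn
      obtain ⟨s, hs⟩ := H10Coh.surjective_app_of_epi (t n) hU (eMod O U (F n) φ)
      refine ⟨(eMod O U (F (n + 1))).symm s, (eMod O U (F n)).injective ?_⟩
      refine (eMod_naturality_right O _ (t n)).trans ?_
      rw [Equiv.apply_symm_apply]
      exact hs)
  refine ⟨h1, fun U hU p hp => ?_⟩
  obtain ⟨q, rfl⟩ := Nat.exists_eq_succ_of_ne_zero hp.ne'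
  have h : Subsingleton (H10Coh.HnM (limit (Functor.ofOpSequence t)) (q + 1) U) :=
    (van_mod_iff O (q + 1) U _).1 (h2 U hU (q + 1) hp)
  rw [show U = U.ι ''ᵁ ⊤ by simp] at h
  have := (H10Coh.restrEquivM U.ι (limit (Functor.ofOpSequence t)) (q + 1) ⊤).symm.toEquiv.subsingleton
  exact (H10Coh.HHEquiv ((limit (Functor.ofOpSequence t)).restrict U.ι) (q + 1)).toEquiv.subsingleton

/-- Towers of quasi-coherent modules with eventually epimorphic transition maps. -/
theorem main_qcoh {X : Scheme.{u}} (F : ℕ → X.Modules) (hF : ∀ n, Coh.IsQCoh (F n))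
    (t : ∀ n, F (n + 1) ⟶ F n) (ht : ∀ n, 1 ≤ n → Epi (t n)) [HasProduct fun n => DCoh.inD X (F n)] :
    DCoh.IsRlim (fun n => DCoh.inD X (F n)) (fun n => (DerivedCategory.singleFunctor X.Modules 0).map (t n))
        (DCoh.inD X (limit (Functor.ofOpSequence t))) ∧
      ∀ (U : X.Opens), IsAffineOpen U → ∀ p : ℕ, 0 < p →
        Subsingleton (Coh.HHon X (limit (Functor.ofOpSequence t)) U p) := by
  obtain ⟨⟨c, hc⟩, h⟩ := main_qcoh_via F hF t ht
  exact ⟨⟨_, c, hc⟩, h⟩

end Groth.Agent.H16Derived.RlimMod
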